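import Groth.Agent.CSALib.Period
import Groth.Agent.CSALib.Descent
import Mathlib

/-! Brauer-triviality of a separable algebraic extension, via finite levels. -/

set_option autoImplicit false
set_option linter.style.haveILetI false
set_option linter.unusedSectionVars false
set_option maxHeartbeats 1000000
universe u

noncomputable section

open scoped TensorProduct

namespace BrSep

theorem eq_one_of_equiv_matrix {F D : Type u} [Field F] [DivisionRing D] [Algebra F D] {n : ℕ}
    (e : D ≃ₐ[F] Matrix (Fin n) (Fin n) F) : Module.finrank F D = 1 := by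
  rw [e.toLinearEquiv.finrank_eq, Module.finrank_matrix, Fintype.card_fin, Module.finrank_self, mul_one]
  rcases lt_trichotomy n 1 with h | h | h
  · obtain rfl : n = 0 := by omega
    exact absurd e.injective.subsingleton (not_subsingleton D)
  · simp [h]
  · exfalso
    let i : Fin n := ⟨0, by omega⟩
    let j : Fin n := ⟨1, by omega⟩
    have h0 : e.symm (Matrix.single i i 1) * e.symm (Matrix.single j j 1) = 0 := by
      rw [← map_mul, Matrix.single_mul_single_of_ne _ _ _ _ (by simp [i, j]), map_zero]
    rcases mul_eq_zero.1 h0 with h1 | h1 <;> rw [map_eq_zero_iff _ e.symm.injective] at h1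
    · simpa using congr($h1 i i)
    · simpa using congr($h1 j j)

/-- A division algebra over a separable algebraic extension is defined over a finite level. -/
theorem exists_model {K F' : Type u} [Field K] [Field F'] [Algebra K F'] [Algebra.IsSeparable K F']
    (D : Type u) [DivisionRing D] [Algebra F' D] [Algebra.IsCentral F' D] [FiniteDimensional F' D] :
    ∃ E : IntermediateField K F', FiniteDimensional K E ∧
      ∃ (D₀ : Type u) (_ : DivisionRing D₀) (_ : Algebra E D₀) (_ : Algebra.IsCentral E D₀) (_ : FiniteDimensional E D₀),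
        Nonempty ((F' ⊗[E] D₀) ≃ₐ[F'] D) := by
  classical
  let b := Module.finBasis F' D
  let T : Set F' := Set.range (fun p : Fin _ × Fin _ × Fin _ => b.repr (b p.1 * b p.2.1) p.2.2) ∪ Set.range (b.repr 1)
  let E : IntermediateField K F' := IntermediateField.adjoin K T
  haveI : Finite T := ((Set.finite_range _).union (Set.finite_range _)).to_subtype
  haveI : FiniteDimensional K E :=
    IntermediateField.finiteDimensional_adjoin fun x _ => Algebra.IsIntegral.isIntegral x
  refine ⟨E, inferInstance, ?_⟩
  haveI : IsScalarTower E F' D := inferInstance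
  let S : Submodule E D := Submodule.span E (Set.range b)
  have key : ∀ x : D, (∀ l, b.repr x l ∈ E) → x ∈ S := fun x hx => by
    rw [← b.sum_repr x]
    refine S.sum_mem fun l _ => ?_
    rw [← show (algebraMap E F' ⟨_, hx l⟩) = b.repr x l from rfl, algebraMap_smul]
    exact S.smul_mem _ (Submodule.subset_span ⟨l, rfl⟩)
  have hone : (1 : D) ∈ S := key 1 fun l => IntermediateField.subset_adjoin K T (Or.inr ⟨l, rfl⟩)
  have hmul : ∀ x y, x ∈ S → y ∈ S → x * y ∈ S := fun x y hx hy => by
    induction hx, hy using Submodule.span_induction₂ with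
    | mem_mem x y hx hy =>
      obtain ⟨i, rfl⟩ := hx
      obtain ⟨j, rfl⟩ := hy
      exact key _ fun l => IntermediateField.subset_adjoin K T (Or.inl ⟨(i, j, l), rfl⟩)
    | zero_left => simp
    | zero_right => simp
    | add_left x y z _ _ _ h1 h2 => rw [add_mul]; exact add_mem h1 h2
    | add_right x y z _ _ _ h1 h2 => rw [mul_add]; exact add_mem h1 h2
    | smul_left c x y _ _ h => rw [smul_mul_assoc]; exact S.smul_mem c h
    | smul_right c x y _ _ h => rw [mul_smul_comm]; exact S.smul_mem c h
  let D₀ : Subalgebra E D := S.toSubalgebra hone hmul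
  haveI : FiniteDimensional E D₀ := FiniteDimensional.span_of_finite E (Set.finite_range b)
  let Φ : F' ⊗[E] D₀ →ₐ[F'] D :=
    Algebra.TensorProduct.lift (Algebra.ofId F' D) D₀.val fun c a => Algebra.commutes (R := F') c _
  have hsurj : Function.Surjective Φ := fun x => by
    refine ⟨∑ l, b.repr x l ⊗ₜ[E] (⟨b l, Submodule.subset_span ⟨l, rfl⟩⟩ : D₀), ?_⟩
    conv_rhs => rw [← b.sum_repr x]
    rw [map_sum]
    exact Finset.sum_congr rfl fun l _ => by simp [Φ, Algebra.smul_def]
  have hle : Module.finrank E D₀ ≤ Module.finrank F' D := by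
    refine (finrank_range_le_card (R := E) b).trans_eq ?_
    rw [Fintype.card_fin]
  have hinj : Function.Injective Φ :=
    (LinearMap.injective_iff_surjective_of_finrank_eq_finrank (f := Φ.toLinearMap) (le_antisymm
      (by rw [Module.finrank_baseChange]; exact hle)
      (LinearMap.finrank_le_finrank_of_surjective (f := Φ.toLinearMap) hsurj))).2 hsurj
  let e := AlgEquiv.ofBijective Φ ⟨hinj, hsurj⟩
  haveI : Algebra.IsCentral F' (F' ⊗[E] D₀) := CSALib.central_of_equiv e.symm
  exact ⟨D₀, divisionRingOfFiniteDimensional E D₀, inferInstanceAs (Algebra E D₀),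
    CSALib.central_of_baseChange F', inferInstance, ⟨e⟩⟩

theorem main (K F : Type u) [Field K] [Field F] [Algebra K F] [Algebra.IsSeparable K F] :
    (∀ (F' : Type u) [Field F'] [Algebra F F'] [FiniteDimensional F F'] [Algebra.IsSeparable F F']
        (D : Type u) [DivisionRing D] [Algebra F' D] [Algebra.IsCentral F' D] [FiniteDimensional F' D],
        Module.finrank F' D = 1) ↔
    (∀ (E : Type u) [Field E] [Algebra K E] [FiniteDimensional K E] [Algebra.IsSeparable K E]
        (D : Type u) [DivisionRing D] [Algebra E D] [Algebra.IsCentral E D] [FiniteDimensional E D]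
        (M : Type u) [Field M] [Algebra K M] [Algebra E M] [Algebra F M] [IsScalarTower K E M]
        [IsScalarTower K F M],
        ∃ n : ℕ, Nonempty ((M ⊗[E] D) ≃ₐ[M] Matrix (Fin n) (Fin n) M)) := by
  constructor
  · intro h E _ _ _ _ D _ _ _ _ M _ _ _ _ _ _
    obtain ⟨α, hα⟩ := Field.exists_primitive_element K E
    let α' : M := algebraMap E M α
    have hsep : IsSeparable F α' :=
      IsSeparable.tower_top F ((Algebra.IsSeparable.isSeparable K α).map (IsScalarTower.toAlgHom K E M) (algebraMap E M).injective)
    let F' : IntermediateField F M := IntermediateField.adjoin F {α'}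
    haveI : FiniteDimensional F F' := IntermediateField.adjoin.finiteDimensional hsep.isIntegral
    haveI : Algebra.IsSeparable F F' := (IntermediateField.isSeparable_adjoin_simple_iff_isSeparable F M).2 hsep
    have hle : (IsScalarTower.toAlgHom K E M).fieldRange ≤ F'.restrictScalars K := by
      rw [AlgHom.fieldRange_eq_map, ← hα, IntermediateField.adjoin_map, IntermediateField.adjoin_le_iff,
        Set.image_singleton, Set.singleton_subset_iff]
      exact IntermediateField.mem_adjoin_simple_self F α'
    letI : Algebra E F' := ((algebraMap E M).codRestrict F' fun e => hle ⟨e, rfl⟩).toAlgebra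
    haveI : IsScalarTower E F' M := IsScalarTower.of_algebraMap_eq fun _ => rfl
    have hbr : ∀ z : CSALib.Br F', z = 1 := fun z => by
      obtain ⟨D', _, _, _, _, rfl, hD'⟩ := CSALib.exists_division z
      rw [h F' D'] at hD'
      exact CSALib.ind_eq_one_iff.1 ((pow_eq_one_iff.1 hD'.symm).resolve_right two_ne_zero)
    have h1 := congrArg (CSALib.res M) (hbr (CSALib.res F' (CSALib.cl E D)))
    rw [CSALib.res_res, map_one, CSALib.res_eq_one_iff] at h1
    obtain ⟨n, -, hn⟩ := h1
    exact ⟨n, hn⟩
  · intro h F' _ _ _ _ D _ _ _ _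
    letI : Algebra K F' := ((algebraMap F F').comp (algebraMap K F)).toAlgebra
    haveI : IsScalarTower K F F' := IsScalarTower.of_algebraMap_eq fun _ => rfl
    haveI : Algebra.IsSeparable K F' := Algebra.IsSeparable.trans K F F'
    obtain ⟨E, hE, D₀, _, _, _, _, ⟨e⟩⟩ := exists_model (K := K) (F' := F') D
    haveI := hE
    obtain ⟨n, ⟨e'⟩⟩ := h E D₀ F'
    exact eq_one_of_equiv_matrix (e.symm.trans e')

end BrSep
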